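import Groth.Agent.FpqcDesc.Props
import Groth.Prelude.Def_TwC
import Mathlib.AlgebraicGeometry.ValuativeCriterion
import Mathlib.AlgebraicGeometry.Morphisms.Etale

/-!
# Schemes that are étale-locally constant are separated, étale and satisfy the valuative criterion
-/

set_option autoImplicit false

universe u

open CategoryTheory CategoryTheory.Limits AlgebraicGeometry MorphismProperty Topology

namespace Groth.Agent.TwCLib

/-- A morphism is universally closed if a finite jointly surjective family composed with it is. -/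
theorem universallyClosed_of_jointlySurjective {ι : Type u} [Finite ι] {Z W : Scheme.{u}} {D : ι → Scheme.{u}}
    (d : ∀ i, D i ⟶ Z) (g : Z ⟶ W) (hd : ∀ z, ∃ i, z ∈ Set.range (d i).base)
    (h : ∀ i, UniversallyClosed (d i ≫ g)) : UniversallyClosed g := by
  constructor
  intro Z' W' i₁ i₂ f' H C hC
  have heq : f'.base '' C = ⋃ i, (pullback.fst i₁ (d i) ≫ f').base '' ((pullback.fst i₁ (d i)).base ⁻¹' C) := by
    ext w
    simp only [Set.mem_image, Set.mem_iUnion, Set.mem_preimage]
    constructor
    · rintro ⟨z, hz, rfl⟩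
      obtain ⟨i, y, hy⟩ := hd (i₁.base z)
      obtain ⟨q, hq, -⟩ := Scheme.Pullback.exists_preimage_pullback (f := i₁) (g := d i) z y hy.symm
      exact ⟨i, q, by rwa [hq], by rw [Scheme.Hom.comp_apply, hq]⟩
    · rintro ⟨i, q, hq, rfl⟩
      exact ⟨_, hq, (Scheme.Hom.comp_apply _ _ _).symm⟩
  rw [heq]
  refine isClosed_iUnion_of_finite fun i => ?_
  exact (h i).universally_isClosedMap _ _ _ ((IsPullback.of_hasPullback i₁ (d i)).paste_horiz H) _
    (hC.preimage (pullback.fst i₁ (d i)).base.hom.continuous)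

variable (S : Scheme.{u}) (I : Type u)

/-- The projection of a constant scheme. -/
noncomputable abbrev constHom : (∐ fun _ : I => S) ⟶ S := Sigma.desc fun _ : I => 𝟙 S

theorem etale_constHom : Etale (constHom S I) :=
  IsZariskiLocalAtSource.sigmaDesc fun _ => inferInstance

theorem exists_ι_eq (x : (∐ fun _ : I => S : Scheme.{u})) :
    ∃ (i : I) (s : S), (Sigma.ι (fun _ : I => S) i).base s = x :=
  ⟨((sigmaMk fun _ : I => S).symm x).1, ((sigmaMk fun _ : I => S).symm x).2,
    (sigmaMk_mk _ _ _).symm.trans ((sigmaMk fun _ : I => S).apply_symm_apply x)⟩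

theorem isSeparated_constHom : IsSeparated (constHom S I) := by
  let p := constHom S I
  let ι' : I → (S ⟶ ∐ fun _ : I => S) := fun i => Sigma.ι (fun _ : I => S) i
  let U : I → I → Set (pullback p p : Scheme.{u}) := fun i j =>
    (pullback.fst p p).base ⁻¹' Set.range (ι' i).base ∩ (pullback.snd p p).base ⁻¹' Set.range (ι' j).base
  have hrange : Set.range (pullback.diagonal p).base = (⋃ (i : I) (j : I) (_ : i ≠ j), U i j)ᶜ := by
    ext z
    simp only [Set.mem_compl_iff, Set.mem_iUnion, not_exists]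
    constructor
    · rintro ⟨x, rfl⟩ i j hij ⟨⟨a, ha⟩, ⟨b, hb⟩⟩
      rw [← Scheme.Hom.comp_apply, pullback.diagonal_fst] at ha
      rw [← Scheme.Hom.comp_apply, pullback.diagonal_snd] at hb
      exact hij (congrArg Sigma.fst ((sigmaι_eq_iff _ _ _ _ _).mp (ha.trans hb.symm)))
    · intro h
      obtain ⟨i, a, ha⟩ := exists_ι_eq S I ((pullback.fst p p).base z)
      obtain ⟨j, b, hb⟩ := exists_ι_eq S I ((pullback.snd p p).base z)
      obtain rfl : i = j := by
        by_contra hij
        exact h i j hij ⟨⟨a, ha⟩, ⟨b, hb⟩⟩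
      have hz : z ∈ Set.range (pullback.map (ι' i ≫ p) (ι' i ≫ p) p p (ι' i) (ι' i) (𝟙 S)
          (by simp) (by simp)).base := by
        rw [Scheme.Pullback.range_map]
        exact ⟨⟨a, ha⟩, ⟨b, hb⟩⟩
      obtain ⟨q, rfl⟩ := hz
      have e : pullback.map (ι' i ≫ p) (ι' i ≫ p) p p (ι' i) (ι' i) (𝟙 S) (by simp) (by simp) =
          pullback.fst (ι' i ≫ p) (ι' i ≫ p) ≫ ι' i ≫ pullback.diagonal p := by
        refine pullback.hom_ext ((pullback.lift_fst _ _ _).trans (by simp)) ?_
        simp only [pullback.map, pullback.lift_snd, Category.assoc, pullback.diagonal_snd, Category.comp_id]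
        have h1 : ι' i ≫ p = 𝟙 S := Sigma.ι_desc _ _
        have h2 : pullback.fst (ι' i ≫ p) (ι' i ≫ p) = pullback.snd (ι' i ≫ p) (ι' i ≫ p) := by
          have h3 := pullback.condition (f := ι' i ≫ p) (g := ι' i ≫ p)
          exact ((congrArg (pullback.fst (ι' i ≫ p) (ι' i ≫ p) ≫ ·) h1).trans (Category.comp_id _)).symm.trans
            (h3.trans ((congrArg (pullback.snd (ι' i ≫ p) (ι' i ≫ p) ≫ ·) h1).trans (Category.comp_id _)))
        rw [h2]
      exact ⟨_, ((congrArg (fun m : pullback (ι' i ≫ p) (ι' i ≫ p) ⟶ pullback p p => m.base q) e).trans rfl).symm⟩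
  have : Etale p := etale_constHom S I
  refine ⟨IsClosedImmersion.of_isPreimmersion _ ?_⟩
  rw [hrange]
  exact (isOpen_iUnion fun i => isOpen_iUnion fun j => isOpen_iUnion fun _ =>
    ((ι' i).isOpenEmbedding.isOpen_range.preimage (pullback.fst p p).base.hom.continuous).inter
      ((ι' j).isOpenEmbedding.isOpen_range.preimage (pullback.snd p p).base.hom.continuous)).isClosed_compl

variable {S}

/-- A property descending fppf-locally holds if it holds on an étale covering family. -/
theorem of_etale_cover (P : MorphismProperty Scheme.{u}) [IsZariskiLocalAtTarget P]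
    [P.DescendsAlong (@Surjective ⊓ @Flat ⊓ @LocallyOfFinitePresentation)] [P.IsStableUnderBaseChange]
    {X : Scheme.{u}} (p : X ⟶ S)
    (h : ∀ s : S, ∃ (S' : Scheme.{u}) (f : S' ⟶ S), Etale f ∧ s ∈ Set.range f.base ∧ P (pullback.snd p f)) :
    P p := by
  choose S' f hf hs hP using h
  let U : S → S.Opens := fun s => ⟨Set.range (f s).base, (f s).isOpenMap.isOpen_range⟩
  refine IsZariskiLocalAtTarget.of_iSup_eq_top U (top_le_iff.1 fun s _ => TopologicalSpace.Opens.mem_iSup.2 ⟨s, hs s⟩) fun s => ?_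
  let g : S' s ⟶ U s := IsOpenImmersion.lift (U s).ι (f s) (by simp [U])
  have hg : g ≫ (U s).ι = f s := IsOpenImmersion.lift_fac _ _ _
  have hgs : Surjective g := ⟨fun y => by
    obtain ⟨x, hx⟩ := y.2
    exact ⟨x, Subtype.ext (by
      rw [← hx, ← congrArg (fun m : S' s ⟶ S => m.base x) hg]; rfl)⟩⟩
  have : Etale (g ≫ (U s).ι) := by rw [hg]; exact hf s
  have hge : Etale g := MorphismProperty.of_postcomp (W := @Etale) (W' := @IsOpenImmersion) g (U s).ι inferInstance this
  refine MorphismProperty.of_pullback_snd_of_descendsAlong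
    (Q := @Surjective ⊓ @Flat ⊓ @LocallyOfFinitePresentation) (f := p ∣_ U s) (g := g)
    ⟨⟨hgs, inferInstance⟩, inferInstance⟩ ?_
  have H : IsPullback (pullback.fst (p ∣_ U s) g ≫ (p ⁻¹ᵁ U s).ι) (pullback.snd (p ∣_ U s) g) p (f s) :=
    hg ▸ (IsPullback.of_hasPullback (p ∣_ U s) g).paste_horiz (isPullback_morphismRestrict p (U s)).flip
  exact (P.arrow_mk_iso_iff (Arrow.isoMk H.isoPullback (Iso.refl _) (by simp [IsPullback.isoPullback_hom_snd]))).2 (hP s)

variable {X : Over S}

theorem property_of_isTwConst (hX : TwC.IsTwConst TwC.Topology.etale X)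
    (P : MorphismProperty Scheme.{u}) [IsZariskiLocalAtTarget P]
    [P.DescendsAlong (@Surjective ⊓ @Flat ⊓ @LocallyOfFinitePresentation)] [P.IsStableUnderBaseChange]
    (hP : ∀ (T : Scheme.{u}) (I : Type u), P (constHom T I)) : P X.hom := by
  refine of_etale_cover P X.hom fun s => ?_
  obtain ⟨S', f, hf, hs, I, ⟨e⟩⟩ := hX s
  refine ⟨S', f, hf, hs, ?_⟩
  exact (P.arrow_mk_iso_iff (Arrow.isoMk ((CategoryTheory.Over.forget _).mapIso e) (Iso.refl _)
    (by simp; exact CategoryTheory.Over.w e.hom))).2 (hP S' I)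

instance : MorphismProperty.DescendsAlong @IsSeparated (@Surjective ⊓ @Flat ⊓ @QuasiCompact) :=
  FpqcDesc.descendsAlong_isSeparated

theorem isSeparated_and_etale (hX : TwC.IsTwConst TwC.Topology.etale X) :
    IsSeparated X.hom ∧ Etale X.hom :=
  ⟨property_of_isTwConst hX @IsSeparated fun T I => isSeparated_constHom T I,
    property_of_isTwConst hX @Etale fun T I => etale_constHom T I⟩

/-- Every valuative square over a twisted constant scheme has a lift. -/
theorem existence (hX : TwC.IsTwConst TwC.Topology.etale X) : ValuativeCriterion.Existence X.hom := by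
  obtain ⟨hsep, -⟩ := isSeparated_and_etale hX
  intro sq
  let T : Scheme.{u} := Spec (.of sq.R)
  let η : Spec (.of sq.K) ⟶ T := Spec.map (CommRingCat.ofHom (algebraMap sq.R sq.K))
  let XT := pullback X.hom sq.i₂
  let qT : XT ⟶ T := pullback.snd _ _
  let σ : Spec (.of sq.K) ⟶ XT := pullback.lift sq.i₁ η sq.commSq.w
  have hσq : σ ≫ qT = η := pullback.lift_snd _ _ _
  have : QuasiCompact (σ ≫ qT) := by rw [hσq]; infer_instance
  have : QuasiCompact σ := QuasiCompact.of_comp σ qT
  let Z := σ.image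
  let h : Z ⟶ T := σ.imageι ≫ qT
  -- an affine étale surjection onto `T` over which `X` becomes constant
  let t : T := IsLocalRing.closedPoint sq.R
  obtain ⟨S', f, hf, ⟨s', hs'⟩, I, ⟨e⟩⟩ := hX (sq.i₂.base t)
  obtain ⟨w, hw, -⟩ := Scheme.Pullback.exists_preimage_pullback (f := sq.i₂) (g := f) t s' hs'.symm
  obtain ⟨W, hW, hwW, -⟩ :=
    exists_isAffineOpen_mem_and_subset (x := w) (U := (⊤ : (pullback sq.i₂ f).Opens)) trivial
  have : IsAffine W := hW
  let a : (W : Scheme.{u}) ⟶ T := W.ι ≫ pullback.fst _ _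
  let b : (W : Scheme.{u}) ⟶ S' := W.ι ≫ pullback.snd _ _
  have hab : a ≫ sq.i₂ = b ≫ f := by simp [a, b, pullback.condition]
  have : Etale a := inferInstance
  have hasurj : Surjective a := ⟨fun x => by
    refine ((IsLocalRing.specializes_closedPoint (R := sq.R) x).mem_open a.isOpenMap.isOpen_range ?_)
    exact ⟨⟨w, hwW⟩, hw⟩⟩
  clear_value a b
  suffices hh : UniversallyClosed h by
    have hex : ValuativeCriterion.Existence h ∧ QuasiCompact h := by
      rw [UniversallyClosed.eq_valuativeCriterion] at hh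
      exact hh
    have hc : σ.toImage ≫ h = η ≫ 𝟙 T := by simp [h, hσq]
    obtain ⟨⟨l⟩⟩ := hex.1 ⟨sq.R, sq.K, σ.toImage, 𝟙 T, ⟨hc⟩⟩
    refine ⟨⟨⟨l.l ≫ σ.imageι ≫ pullback.fst _ _, ?_, ?_⟩⟩⟩
    · have h1 : η ≫ l.l = σ.toImage := l.fac_left
      show η ≫ _ = _
      rw [reassoc_of% h1, Scheme.Hom.toImage_imageι_assoc]
      exact pullback.lift_fst _ _ _
    · have h2 : l.l ≫ h = 𝟙 T := l.fac_right
      rw [Category.assoc, Category.assoc, pullback.condition, ← Category.assoc σ.imageι, ← Category.assoc,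
        show l.l ≫ σ.imageι ≫ pullback.snd X.hom sq.i₂ = 𝟙 T from h2, Category.id_comp]
  refine MorphismProperty.of_pullback_snd_of_descendsAlong (P := @UniversallyClosed)
    (Q := @Surjective ⊓ @Flat ⊓ @LocallyOfFinitePresentation) (f := h) (g := a)
    ⟨⟨hasurj, inferInstance⟩, inferInstance⟩ ?_
  let ZW := pullback h a
  let z₁ : ZW ⟶ Z := pullback.fst _ _
  let z₂ : ZW ⟶ W := pullback.snd _ _
  let k : ZW ⟶ pullback X.hom (b ≫ f) := pullback.lift (z₁ ≫ σ.imageι ≫ pullback.fst _ _) z₂ (by
    calc (z₁ ≫ σ.imageι ≫ pullback.fst X.hom sq.i₂) ≫ X.hom = (z₁ ≫ h) ≫ sq.i₂ := by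
          simp [h, qT, pullback.condition]
      _ = z₂ ≫ b ≫ f := by rw [pullback.condition (f := h) (g := a), Category.assoc, hab])
  let m : pullback X.hom (b ≫ f) ⟶ pullback X.hom f := pullback.lift (pullback.fst _ _) (pullback.snd _ _ ≫ b)
    ((pullback.condition (f := X.hom) (g := b ≫ f)).trans (Category.assoc _ _ _).symm)
  have hcond : pullback.fst X.hom (b ≫ f) ≫ X.hom = (pullback.snd X.hom (b ≫ f) ≫ a) ≫ sq.i₂ := by
    exact (pullback.condition (f := X.hom) (g := b ≫ f)).trans
      ((congrArg (pullback.snd X.hom (b ≫ f) ≫ ·) hab.symm).trans (Category.assoc _ _ _).symm)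
  have hk1 : k ≫ pullback.fst X.hom (b ≫ f) = z₁ ≫ σ.imageι ≫ pullback.fst X.hom sq.i₂ := pullback.lift_fst _ _ _
  have hk2 : k ≫ pullback.snd X.hom (b ≫ f) = z₂ := pullback.lift_snd _ _ _
  have hm1 : m ≫ pullback.fst X.hom f = pullback.fst X.hom (b ≫ f) := pullback.lift_fst _ _ _
  have hm2 : m ≫ pullback.snd X.hom f = pullback.snd X.hom (b ≫ f) ≫ b := pullback.lift_snd _ _ _
  clear_value k m
  have hk : IsClosedImmersion k := by
    -- `pullback X.hom (b ≫ f)` is the base change of `XT`
    have H1 : IsPullback (pullback.lift (pullback.fst X.hom (b ≫ f)) (pullback.snd _ _ ≫ a)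
        (hcond) : pullback X.hom (b ≫ f) ⟶ XT) (pullback.snd X.hom (b ≫ f)) qT a := by
      refine IsPullback.of_right ?_ (pullback.lift_snd _ _ _) (IsPullback.of_hasPullback X.hom sq.i₂)
      rw [pullback.lift_fst]
      have := IsPullback.of_hasPullback X.hom (b ≫ f)
      exact IsPullback.of_iso this (Iso.refl _) (Iso.refl _) (Iso.refl _) (Iso.refl _) (by simp) (by simp) (by simp)
        (by simpa using hab.symm)
    have H2 : IsPullback z₁ k σ.imageι (pullback.lift (pullback.fst X.hom (b ≫ f)) (pullback.snd _ _ ≫ a)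
        (hcond) : pullback X.hom (b ≫ f) ⟶ XT) := by
      refine IsPullback.of_bot ?_ ?_ H1
      · rw [hk2]
        exact IsPullback.of_hasPullback h a
      · refine pullback.hom_ext ?_ ?_
        · rw [Category.assoc, Category.assoc]
          exact hk1.symm.trans (congrArg (k ≫ ·) (pullback.lift_fst _ _ _).symm)
        · rw [Category.assoc, Category.assoc]
          refine ((pullback.condition (f := h) (g := a)).trans ?_).trans
            (congrArg (k ≫ ·) (pullback.lift_snd _ _ _).symm)
          rw [← Category.assoc, hk2]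
    exact MorphismProperty.of_isPullback (P := @IsClosedImmersion) H2 inferInstance
  -- the points above the generic point form a compact dense subset
  let P' := pullback σ.toImage z₁
  have : QuasiCompact z₁ := MorphismProperty.pullback_fst (P := @QuasiCompact) _ _ inferInstance
  have : CompactSpace P' := QuasiCompact.compactSpace_of_compactSpace (pullback.fst σ.toImage z₁)
  have : Etale z₁ := MorphismProperty.pullback_fst (P := @Etale) _ _ inferInstance
  have hdense : DenseRange (pullback.snd σ.toImage z₁).base := by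
    refine Dense.mono ?_ ((Scheme.Hom.denseRange σ.toImage).preimage z₁.isOpenMap)
    rintro z ⟨y, hy⟩
    obtain ⟨q, -, hq⟩ := Scheme.Pullback.exists_preimage_pullback (f := σ.toImage) (g := z₁) y z hy
    exact ⟨q, hq⟩
  let sec : I → (S' ⟶ pullback X.hom f) := fun i => Sigma.ι (fun _ : I => S') i ≫ e.inv.left
  have hsec : ∀ i, sec i ≫ pullback.snd X.hom f = 𝟙 S' := fun i => by
    show (Sigma.ι (fun _ : I => S') i ≫ e.inv.left) ≫ _ = _
    rw [Category.assoc, show e.inv.left ≫ pullback.snd X.hom f = (TwC.const S' I).hom from Over.w e.inv]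
    exact Sigma.ι_desc _ _
  have hsecopen : ∀ i, IsOpenImmersion (sec i) := fun i => by
    have : IsIso e.inv.left := ((CategoryTheory.Over.forget _).mapIso e.symm).isIso_hom
    infer_instance
  have hcov : ∀ y : (pullback X.hom f : Scheme.{u}), ∃ i, y ∈ Set.range (sec i).base := fun y => by
    obtain ⟨i, x, hx⟩ := exists_ι_eq S' I (e.hom.left.base y)
    refine ⟨i, x, ?_⟩
    rw [Scheme.Hom.comp_apply, hx, ← Scheme.Hom.comp_apply, ← Over.comp_left, e.hom_inv_id]
    rfl
  have hcomp : IsCompact (Set.range (pullback.snd σ.toImage z₁ ≫ k ≫ m).base) :=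
    isCompact_range (pullback.snd σ.toImage z₁ ≫ k ≫ m).base.hom.continuous
  obtain ⟨J, hJ⟩ := hcomp.elim_finite_subcover (fun i => Set.range (sec i).base)
    (fun i => (sec i).isOpenEmbedding.isOpen_range) (fun y _ => Set.mem_iUnion.2 (hcov y))
  have hsecclosed : ∀ i, IsClosedImmersion (sec i) := fun i => by
    have : IsClosedImmersion (sec i ≫ pullback.snd X.hom f) := by rw [hsec]; infer_instance
    exact IsClosedImmersion.of_comp (sec i) (pullback.snd X.hom f)
  have hin : ∀ z : ZW, ∃ i ∈ J, (k ≫ m).base z ∈ Set.range (sec i).base := by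
    have hC : IsClosed ((k ≫ m).base ⁻¹' ⋃ i ∈ J, Set.range (sec i).base) :=
      (isClosed_biUnion_finset fun i _ => (hsecclosed i).base_closed.isClosed_range).preimage
        (k ≫ m).base.hom.continuous
    have : Set.univ ⊆ (k ≫ m).base ⁻¹' ⋃ i ∈ J, Set.range (sec i).base := by
      rw [← hdense.closure_range]
      refine closure_minimal ?_ hC
      rintro _ ⟨q, rfl⟩
      exact hJ ⟨q, rfl⟩
    intro z
    obtain ⟨i, hi, hz⟩ := Set.mem_iUnion₂.1 (this (Set.mem_univ z))
    exact ⟨i, hi, hz⟩
  let D : ↥J → Scheme.{u} := fun i => pullback (k ≫ m) (sec i.1)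
  refine universallyClosed_of_jointlySurjective (D := D) (fun i => pullback.fst (k ≫ m) (sec i.1)) z₂ (fun z => ?_)
    (fun i => ?_)
  · obtain ⟨i, hi, x, hx⟩ := hin z
    obtain ⟨q, hq, -⟩ := Scheme.Pullback.exists_preimage_pullback (f := k ≫ m) (g := sec i) z x hx.symm
    exact ⟨⟨i, hi⟩, q, hq⟩
  · -- the `i`-th piece is a closed subscheme of the section `W → pullback X.hom (b ≫ f)`
    let sW : (W : Scheme.{u}) ⟶ pullback X.hom (b ≫ f) := pullback.lift (b ≫ sec i.1 ≫ pullback.fst _ _) (𝟙 _) (by
      rw [Category.id_comp, Category.assoc, Category.assoc, pullback.condition, reassoc_of% (hsec i.1)])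
    have hW1 : sW ≫ pullback.fst X.hom (b ≫ f) = b ≫ sec i.1 ≫ pullback.fst X.hom f := pullback.lift_fst _ _ _
    have hW2 : sW ≫ pullback.snd X.hom (b ≫ f) = 𝟙 _ := pullback.lift_snd _ _ _
    clear_value sW
    have H3 : IsPullback sW b m (sec i.1) := by
      have Hm : IsPullback m (pullback.snd X.hom (b ≫ f)) (pullback.snd X.hom f) b := by
        refine IsPullback.of_right ?_ hm2 (IsPullback.of_hasPullback X.hom f)
        rw [hm1]
        exact IsPullback.of_hasPullback X.hom (b ≫ f)
      refine (IsPullback.of_bot ?_ ?_ Hm).flip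
      · rw [hsec, hW2]
        exact IsPullback.id_vert b
      · refine pullback.hom_ext ?_ ?_
        · exact (Category.assoc _ _ _).trans
            ((hW1.symm.trans (congrArg (sW ≫ ·) hm1.symm)).trans (Category.assoc _ _ _).symm)
        · refine ((Category.assoc _ _ _).trans ((congrArg (b ≫ ·) (hsec i.1)).trans (Category.comp_id b))).trans ?_
          rw [Category.assoc, hm2, reassoc_of% hW2]
    have Hd := (IsPullback.of_hasPullback (k ≫ m) (sec i.1))
    let d : pullback (k ≫ m) (sec i.1) ⟶ W := H3.lift (pullback.fst _ _ ≫ k) (pullback.snd _ _)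
      (by rw [Category.assoc]; exact pullback.condition)
    have hd : IsClosedImmersion d := by
      have H4 : IsPullback (pullback.fst (k ≫ m) (sec i.1)) d k sW := by
        refine IsPullback.of_bot ?_ (H3.lift_fst _ _ _).symm H3.flip.flip |>.flip.flip
        rw [show d ≫ b = pullback.snd (k ≫ m) (sec i.1) from H3.lift_snd _ _ _]
        exact Hd
      exact MorphismProperty.of_isPullback (P := @IsClosedImmersion) H4 hk
    have he : pullback.fst (k ≫ m) (sec i.1) ≫ z₂ = d := by
      have h1 : d ≫ sW = pullback.fst (k ≫ m) (sec i.1) ≫ k := H3.lift_fst _ _ _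
      have := congrArg (· ≫ pullback.snd X.hom (b ≫ f)) h1
      simp only [Category.assoc, hW2, hk2, Category.comp_id] at this
      exact this.symm
    rw [he]
    infer_instance

theorem isSeparated_etale_valuativeCriterion (hX : TwC.IsTwConst TwC.Topology.etale X) :
    IsSeparated X.hom ∧ Etale X.hom ∧ ValuativeCriterion X.hom := by
  obtain ⟨hsep, het⟩ := isSeparated_and_etale hX
  exact ⟨hsep, het, ValuativeCriterion.iff.2 ⟨existence hX, IsSeparated.valuativeCriterion X.hom⟩⟩

end Groth.Agent.TwCLib
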