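import Groth.Agent.TwCLib.Etale
import Groth.Agent.DiagRig.ConstPieces
import Groth.Agent.EtStruct.UnibranchGlobal
import Groth.Agent.FpqcDesc.Props

/-!
# Twisted constant schemes over irreducible geometrically unibranch bases

* `eq_of_agree_point` : sections of separated unramified schemes over a preconnected base
* `isIso_of_section_point` : a connected finite étale cover with a rational point in a one-point fibre is trivial
* `exists_irreducible_nhd` : étale schemes over irreducible geometrically unibranch schemes are locally irreducible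
* `isFinite_piece` : an open and closed piece with a one-point generic fibre is finite
-/

set_option autoImplicit false
set_option backward.isDefEq.respectTransparency false
set_option linter.style.haveILetI false

universe u

open CategoryTheory CategoryTheory.Limits AlgebraicGeometry MorphismProperty TopologicalSpace

namespace Groth.Agent.TwCLib

/-- Two sections of a separated unramified scheme over a preconnected base which agree at a point
are equal. -/
theorem eq_of_agree_point {X Y : Scheme.{u}} [PreconnectedSpace Y] (g : X ⟶ Y)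
    [FormallyUnramified g] [LocallyOfFiniteType g] [IsSeparated g] {s s' : Y ⟶ X}
    (hs : s ≫ g = 𝟙 Y) (hs' : s' ≫ g = 𝟙 Y) {K : Scheme.{u}} (c : K ⟶ Y) (k : K)
    (h : c ≫ s = c ≫ s') : s = s' := by
  let w : Y ⟶ pullback g g := pullback.lift s s' (hs.trans hs'.symm)
  have he : (c ≫ s) ≫ pullback.diagonal g = c ≫ w := by
    apply pullback.hom_ext <;>
      simp only [w, Category.assoc, pullback.diagonal_fst, pullback.diagonal_snd, pullback.lift_fst,
        pullback.lift_snd, Category.comp_id, h]
  let D : Set (pullback g g : Scheme.{u}) := Set.range (pullback.diagonal g).base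
  have hD : IsClopen (w.base ⁻¹' D) :=
    ⟨((pullback.diagonal g).isClosedEmbedding.isClosed_range).preimage w.base.hom.continuous,
      ((pullback.diagonal g).isOpenEmbedding.isOpen_range).preimage w.base.hom.continuous⟩
  have hne : (w.base ⁻¹' D).Nonempty := ⟨c.base k, (c ≫ s).base k, by
    rw [← Scheme.Hom.comp_apply, he]; rfl⟩
  have hr : Set.range w ⊆ Set.range (pullback.diagonal g) := by
    rintro _ ⟨z, rfl⟩
    exact (hD.eq_univ hne).ge (Set.mem_univ z)
  have hl := IsOpenImmersion.lift_fac (pullback.diagonal g) w hr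
  have h1 := congrArg (· ≫ pullback.fst g g) hl
  have h2 := congrArg (· ≫ pullback.snd g g) hl
  simp only [Category.assoc, pullback.diagonal_fst, pullback.diagonal_snd, Category.comp_id, w,
    pullback.lift_fst, pullback.lift_snd] at h1 h2
  exact h1.symm.trans h2

/-- A field-valued point factors through the residue field of its image. -/
theorem exists_residue_factor {X : Scheme.{u}} {K : Type u} [Field K] (a : Spec (.of K) ⟶ X)
    (x : X) (hx : a.base (IsLocalRing.closedPoint K) = x) :
    ∃ ψ : X.residueField x ⟶ .of K, Spec.map ψ ≫ X.fromSpecResidueField x = a := by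
  obtain ⟨⟨x', ψ⟩, rfl⟩ := (Scheme.SpecToEquivOfField K X).symm.surjective a
  obtain rfl : x' = x := by
    rw [← hx]
    simp only [Scheme.SpecToEquivOfField, Equiv.coe_fn_symm_mk, Scheme.Hom.comp_base, TopCat.coe_comp,
      Function.comp_apply, Scheme.fromSpecResidueField_apply]
  exact ⟨ψ, rfl⟩

/-- A finite étale cover with connected source, having in some fibre a single point, which is rational,
is an isomorphism. -/
theorem isIso_of_section_point {U Y : Scheme.{u}} (g : U ⟶ Y) [IsFinite g] [Etale g] [Surjective g]
    [PreconnectedSpace U] {K : Type u} [Field K] (τ : Spec (.of K) ⟶ U) [IsPreimmersion (τ ≫ g)]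
    (huniq : ∀ z : U, g.base z = (τ ≫ g).base (IsLocalRing.closedPoint K) →
      z = τ.base (IsLocalRing.closedPoint K)) : IsIso g := by
  set l := τ.base (IsLocalRing.closedPoint K) with hl
  obtain ⟨φ, hφ⟩ := exists_residue_factor τ l rfl
  have hρ : Spec.map (g.residueFieldMap l ≫ φ) ≫ Y.fromSpecResidueField (g.base l) = τ ≫ g := by
    rw [Spec.map_comp, Category.assoc, Scheme.Hom.SpecMap_residueFieldMap_fromSpecResidueField,
      ← Category.assoc, hφ]
  have hsurj : Function.Surjective (g.residueFieldMap l ≫ φ).hom := by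
    haveI : IsPreimmersion (Spec.map (g.residueFieldMap l ≫ φ) ≫ Y.fromSpecResidueField (g.base l)) := by
      rw [hρ]; infer_instance
    haveI := IsPreimmersion.of_comp (Spec.map (g.residueFieldMap l ≫ φ)) (Y.fromSpecResidueField (g.base l))
    haveI : IsClosedImmersion (Spec.map (g.residueFieldMap l ≫ φ)) :=
      IsClosedImmersion.of_isPreimmersion _ (Set.subsingleton_of_subsingleton.isClosed)
    haveI : Surjective (Spec.map (g.residueFieldMap l ≫ φ)) :=
      ⟨fun y => ⟨IsLocalRing.closedPoint K, Subsingleton.elim _ _⟩⟩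
    haveI := isIso_of_isClosedImmersion_of_surjective (Spec.map (g.residueFieldMap l ≫ φ))
    haveI : IsIso (Scheme.Spec.map (g.residueFieldMap l ≫ φ).op) := ‹_›
    haveI := isIso_of_reflects_iso (g.residueFieldMap l ≫ φ).op Scheme.Spec
    haveI := isIso_of_op (g.residueFieldMap l ≫ φ)
    exact (ConcreteCategory.bijective_of_isIso (g.residueFieldMap l ≫ φ)).2
  have hinjφ : Function.Injective φ.hom := φ.hom.injective
  have hsurjg : Function.Surjective (g.residueFieldMap l).hom := fun a => by
    obtain ⟨b, hb⟩ := hsurj (φ.hom a)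
    exact ⟨b, hinjφ hb⟩
  have hinjpt : ∀ {L : Type u} [Field L] (a b : Spec (.of L) ⟶ U),
      a.base (IsLocalRing.closedPoint L) = l → b.base (IsLocalRing.closedPoint L) = l →
      a ≫ g = b ≫ g → a = b := by
    intro L _ a b ha hb hab
    obtain ⟨ψa, rfl⟩ := exists_residue_factor a l ha
    obtain ⟨ψb, rfl⟩ := exists_residue_factor b l hb
    rw [Category.assoc, Category.assoc, ← Scheme.Hom.SpecMap_residueFieldMap_fromSpecResidueField,
      ← Category.assoc, ← Category.assoc, cancel_mono, ← Spec.map_comp, ← Spec.map_comp] at hab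
    have h' := Spec.map_injective hab
    have : ψa = ψb := by
      ext x
      obtain ⟨y, rfl⟩ := hsurjg x
      exact congr(($h').hom y)
    rw [this]
  let D : Set (pullback g g : Scheme.{u}) := Set.range (pullback.diagonal g).base
  haveI : IsFinite (pullback.fst g g) := MorphismProperty.pullback_fst g g inferInstance
  haveI : Etale (pullback.fst g g) := MorphismProperty.pullback_fst g g inferInstance
  have hC : IsClopen ((pullback.fst g g).base '' Dᶜ) :=
    ⟨(pullback.fst g g).isClosedMap _ (pullback.diagonal g).isOpenEmbedding.isOpen_range.isClosed_compl,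
      (pullback.fst g g).isOpenMap _ (pullback.diagonal g).isClosedEmbedding.isClosed_range.isOpen_compl⟩
  have hCl : l ∉ (pullback.fst g g).base '' Dᶜ := by
    rintro ⟨q, hq, hql⟩
    apply hq
    have hq2 : (pullback.snd g g).base q = l := by
      refine huniq _ ?_
      rw [← Scheme.Hom.comp_apply, ← pullback.condition, Scheme.Hom.comp_apply, hql,
        Scheme.Hom.comp_apply]
    let a := (pullback g g).fromSpecResidueField q
    have hab : a ≫ pullback.fst g g = a ≫ pullback.snd g g := by
      refine hinjpt (L := (pullback g g).residueField q) _ _ ?_ ?_ ?_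
      · exact (congrArg (pullback.fst g g).base (Scheme.fromSpecResidueField_apply q _)).trans hql
      · exact (congrArg (pullback.snd g g).base (Scheme.fromSpecResidueField_apply q _)).trans hq2
      · rw [Category.assoc, Category.assoc, pullback.condition]
    have ha : (a ≫ pullback.fst g g) ≫ pullback.diagonal g = a := by
      apply pullback.hom_ext
      · simp
      · simp [hab]
    refine ⟨(a ≫ pullback.fst g g).base (IsLocalRing.closedPoint _), ?_⟩
    rw [← Scheme.Hom.comp_apply, ha, Scheme.fromSpecResidueField_apply]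
  have hdiag : Surjective (pullback.diagonal g) := ⟨fun q => by
    by_contra hq
    exact hCl ((hC.eq_univ ⟨_, q, hq, rfl⟩).ge (Set.mem_univ l))⟩
  haveI : IsIso (pullback.diagonal g) :=
    (isIso_iff_isOpenImmersion_and_surjective _).mpr ⟨inferInstance, hdiag⟩
  haveI : Mono g := (pullback.isIso_diagonal_iff g).mp inferInstance
  haveI : IsOpenImmersion g := IsOpenImmersion.of_flat_of_mono g
  exact (isIso_iff_isOpenImmersion_and_surjective g).mpr ⟨inferInstance, inferInstance⟩

/-- An étale scheme over an irreducible geometrically unibranch scheme is locally irreducible. -/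
theorem exists_irreducible_nhd {X S : Scheme.{u}} (f : X ⟶ S) [Etale f] [IrreducibleSpace S]
    (hS : ∀ s : S, CAlg2.IsGeomUnibranch (S.presheaf.stalk s)) (x : X) :
    ∃ N : X.Opens, x ∈ N ∧ IsIrreducible (N : Set X) := by
  obtain ⟨X', Y', f', a, b, _, _, hY', -⟩ := EtStruct.exists_reduced_homeomorph f hS
  obtain ⟨N, hN, hNi⟩ := EtStruct.exists_irreducible_nhd_of_etale f' (a.symm x) (hY' _)
  exact ⟨⟨a '' N, a.isOpenMap _ N.2⟩, ⟨_, hN, a.apply_symm_apply x⟩,
    hNi.image _ a.continuous.continuousOn⟩

/-- The generic point of an irreducible open of a flat scheme lies over the generic point. -/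
theorem map_eq_genericPoint {X S : Scheme.{u}} (f : X ⟶ S) [Flat f] [IrreducibleSpace S]
    {N : X.Opens} {v : X} (hv : IsGenericPoint v (closure (N : Set X))) (hvN : v ∈ N) :
    f.base v = genericPoint S := by
  obtain ⟨w, hw, hwf⟩ := Flat.generalizingMap f (genericPoint_specializes (f.base v))
  have hwN : w ∈ N := hw.mem_open N.2 hvN
  have h2 : v ⤳ w := hv.specializes (subset_closure hwN)
  rw [← hwf, (hw.antisymm h2).eq]

variable {S : Scheme.{u}} [IrreducibleSpace S] {X : Over S}

/-- A closed open piece of a twisted constant scheme with a one-point generic fibre is finite over the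
base. -/
theorem isFinite_piece (hS : ∀ s : S, CAlg2.IsGeomUnibranch (S.presheaf.stalk s))
    (hX : TwC.IsTwConst TwC.Topology.etale X) (U : X.left.Opens) (hU : IsClosed (U : Set X.left))
    (l : X.left) (hl : ∀ z ∈ U, X.hom.base z = genericPoint S → z = l) :
    IsFinite (U.ι ≫ X.hom) := by
  classical
  obtain ⟨hsep, het⟩ := isSeparated_and_etale hX
  haveI : MorphismProperty.DescendsAlong @IsFinite.{u}
      (@Surjective ⊓ @Flat ⊓ @QuasiCompact : MorphismProperty Scheme.{u}) :=
    FpqcDesc.descendsAlong_isFinite
  set g : U.toScheme ⟶ S := U.ι ≫ X.hom with hgdef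
  haveI : Etale g := inferInstanceAs (Etale (U.ι ≫ X.hom))
  refine of_etale_cover @IsFinite g fun s => ?_
  obtain ⟨S', f, hf, ⟨s', rfl⟩, I, ⟨e⟩⟩ := hX s
  haveI : Etale f := hf
  obtain ⟨A, hA, hsA, -⟩ := exists_isAffineOpen_mem_and_subset (x := f.base s') (U := (⊤ : S.Opens)) trivial
  obtain ⟨N, hN, hNi⟩ := exists_irreducible_nhd f hS s'
  obtain ⟨V, hV, hsV, hVsub⟩ := exists_isAffineOpen_mem_and_subset (x := s') (U := N ⊓ f ⁻¹ᵁ A) ⟨hN, hsA⟩
  haveI : IsAffine V.toScheme := hV
  haveI : IsAffine A.toScheme := hA
  let h : V.toScheme ⟶ S := V.ι ≫ f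
  haveI : Etale h := inferInstanceAs (Etale (V.ι ≫ f))
  refine ⟨V, h, inferInstance, ⟨⟨s', hsV⟩, rfl⟩, ?_⟩
  have hVi : IsIrreducible (V : Set S') :=
    ⟨⟨s', hsV⟩, hNi.2.open_subset V.2 fun z hz => (hVsub hz).1⟩
  haveI : IrreducibleSpace V.toScheme := Subtype.irreducibleSpace hVi
  let v : V.toScheme := genericPoint V.toScheme
  have hv : h.base v = genericPoint S :=
    map_eq_genericPoint h (N := ⊤) (v := v) (by simpa using genericPoint_spec V.toScheme) trivial
  obtain ⟨σ, hσo, hσ, hdisj, hcov⟩ := DiagRig.exists_sections X f e V.ι h rfl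
  haveI := hσo
  let z : pullback g h ⟶ pullback X.hom h :=
    pullback.map g h X.hom h U.ι (𝟙 _) (𝟙 S) (by simp [g]) (by simp)
  have hz2 : z ≫ pullback.snd X.hom h = pullback.snd g h := by simp [z]
  haveI : IsClosedImmersion U.ι := .of_isPreimmersion _ (by rw [Scheme.Opens.range_ι]; exact hU)
  haveI : IsOpenImmersion z := inferInstanceAs (IsOpenImmersion (pullback.map _ _ _ _ _ _ _ _ _))
  have hrange : Set.range z.base = (pullback.fst X.hom h).base ⁻¹' (U : Set X.left) := by
    simp [z, Scheme.Pullback.range_map, Scheme.Opens.range_ι]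
  haveI : IsClosedImmersion z := .of_isPreimmersion _ (by
    rw [hrange]; exact hU.preimage (pullback.fst X.hom h).base.hom.continuous)
  have hF : {q : (pullback g h : Scheme.{u}) | (pullback.snd g h).base q = v}.Finite := by
    by_cases hne : {q : (pullback g h : Scheme.{u}) | (pullback.snd g h).base q = v}.Nonempty
    swap
    · rw [Set.not_nonempty_iff_eq_empty.mp hne]; exact Set.finite_empty
    have hfst : ∀ q, (pullback.snd g h).base q = v → ((pullback.fst g h).base q).1 = l := fun q hq => by
      refine hl _ ((pullback.fst g h).base q).2 ?_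
      have : g.base ((pullback.fst g h).base q) = genericPoint S := by
        rw [← Scheme.Hom.comp_apply, pullback.condition, Scheme.Hom.comp_apply, hq, hv]
      rw [← this]; rfl
    obtain ⟨q₀, hq₀⟩ := hne
    obtain ⟨W, hW, hlW, hWA⟩ := exists_isAffineOpen_mem_and_subset
      (x := (pullback.fst g h).base q₀) (U := g ⁻¹ᵁ A) (by
        show g.base ((pullback.fst g h).base q₀) ∈ A
        rw [← Scheme.Hom.comp_apply, pullback.condition, Scheme.Hom.comp_apply]
        exact (hVsub ((pullback.snd g h).base q₀).2).2)
    haveI : IsAffine W.toScheme := hW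
    let gW : W.toScheme ⟶ A.toScheme := IsOpenImmersion.lift A.ι (W.ι ≫ g) (by
      rw [Scheme.Opens.range_ι]; rintro _ ⟨w, rfl⟩; exact hWA w.2)
    let hA' : V.toScheme ⟶ A.toScheme := IsOpenImmersion.lift A.ι h (by
      rw [Scheme.Opens.range_ι]; rintro _ ⟨w, rfl⟩; exact (hVsub w.2).2)
    have hgW : gW ≫ A.ι = W.ι ≫ g := IsOpenImmersion.lift_fac _ _ _
    have hhA : hA' ≫ A.ι = h := IsOpenImmersion.lift_fac _ _ _
    let m : pullback gW hA' ⟶ pullback g h :=
      pullback.map gW hA' g h W.ι (𝟙 _) A.ι (by rw [hgW]) (by simp [hhA])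
    haveI : QuasiCompact gW := inferInstance
    haveI : Etale gW := by
      haveI : Etale (gW ≫ A.ι) := by rw [hgW]; infer_instance
      exact MorphismProperty.of_postcomp (W := @Etale) (W' := @IsOpenImmersion) gW A.ι inferInstance ‹_›
    haveI : LocallyQuasiFinite (pullback.snd gW hA') := by
      haveI : Etale (pullback.snd gW hA') := MorphismProperty.pullback_snd _ _ inferInstance
      exact EtStruct.locallyQuasiFinite_of_formallyUnramified _
    refine (((pullback.snd gW hA').finite_preimage_singleton v).image m.base).subset ?_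
    intro q hq
    have hqW : q ∈ Set.range m.base := by
      simp only [m, Scheme.Pullback.range_map, Scheme.Opens.range_ι, Set.mem_inter_iff, Set.mem_preimage]
      refine ⟨?_, ?_⟩
      · rw [show (pullback.fst g h).base q = (pullback.fst g h).base q₀ from
          Subtype.ext ((hfst q hq).trans (hfst q₀ hq₀).symm)]
        exact hlW
      · exact ⟨_, rfl⟩
    obtain ⟨p, rfl⟩ := hqW
    refine ⟨p, ?_, rfl⟩
    show (pullback.snd gW hA').base p = v
    rw [← hq, ← Scheme.Hom.comp_apply]
    simp [m]
  let J : Set I := {i | ∃ q, z.base q ∈ Set.range (σ i).base}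
  have hJ : ∀ i ∈ J, ∃ q, z.base q = (σ i).base v := by
    rintro i ⟨q, y, hy⟩
    have hcl : IsClopen ((σ i).base ⁻¹' Set.range z.base) :=
      ⟨z.isClosedEmbedding.isClosed_range.preimage (σ i).base.hom.continuous,
        z.isOpenEmbedding.isOpen_range.preimage (σ i).base.hom.continuous⟩
    exact (hcl.eq_univ ⟨y, q, hy.symm⟩).ge (Set.mem_univ v)
  choose qf hqf using hJ
  have hJfin : J.Finite := by
    haveI := hF.to_subtype
    refine Set.finite_coe_iff.mp (Finite.of_injective
      (fun i : J => (⟨qf i.1 i.2, ?_⟩ : {q | (pullback.snd g h).base q = v})) ?_)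
    · show (pullback.snd g h).base _ = v
      rw [← hz2, Scheme.Hom.comp_apply, hqf, ← Scheme.Hom.comp_apply, hσ]
      rfl
    · intro i k hik
      have : qf i.1 i.2 = qf k.1 k.2 := congrArg Subtype.val hik
      exact Subtype.ext (hdisj _ _ v v (by rw [← hqf _ i.2, this, hqf]))
  haveI : CompactSpace (pullback g h : Scheme.{u}) := by
    rw [← isCompact_univ_iff, z.isEmbedding.isCompact_iff, Set.image_univ]
    refine (hJfin.isCompact_biUnion fun i _ => isCompact_range (σ i).base.hom.continuous).of_isClosed_subset
      z.isClosedEmbedding.isClosed_range ?_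
    rintro _ ⟨q, rfl⟩
    obtain ⟨i, hi⟩ := hcov (z.base q)
    exact Set.mem_biUnion (show i ∈ J from ⟨q, hi⟩) hi
  haveI : QuasiCompact (z ≫ pullback.snd X.hom h) := inferInstance
  rw [← hz2]
  exact DiagRig.finite_const V.toScheme I (pullback.snd X.hom h) σ hσ hdisj hcov z

end Groth.Agent.TwCLib
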